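import Cfsg.Agent.Components.Quasisimple
import Cfsg.Agent.Components.Layer
import Cfsg.Agent.Components.GenFitting
import Cfsg.Agent.Components.Signalizer.Basic
import Cfsg.Agent.Presentations.BinaryIcosahedral
import Mathlib.GroupTheory.SpecificGroups.Alternating
import Mathlib.GroupTheory.SpecificGroups.Alternating.Simple

/-!
Permutation groups with quasisimple generalized Fitting subgroup: small elements do not centralize
the generalized Fitting subgroup, and alternating subgroups are enlarged by three-cycles.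
-/

set_option linter.style.haveILetI false

namespace Cfsg.Lib.AltOverSylow

theorem apply_inv' {β : Type*} (f : Equiv.Perm β) (x : β) : f (f⁻¹ x) = x := by simp

theorem inv_apply' {β : Type*} (f : Equiv.Perm β) (x : β) : f⁻¹ (f x) = x := by simp

theorem swap_rotate {β : Type*} [DecidableEq β] {p q r : β} (hpq : p ≠ q) (hpr : p ≠ r) (hqr : q ≠ r) :
    Equiv.swap p q * Equiv.swap p r = Equiv.swap r p * Equiv.swap r q := by
  ext x
  simp only [Equiv.Perm.coe_mul, Function.comp_apply, Equiv.swap_apply_def]
  grind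

theorem swap_via {β : Type*} [DecidableEq β] {a u v : β} (hva : v ≠ a) (huv : u ≠ v) :
    Equiv.swap u v = Equiv.swap a u * Equiv.swap a v * Equiv.swap a u := by
  have h := Equiv.swap_apply_apply (Equiv.swap a u) a v
  rw [Equiv.swap_apply_left, Equiv.swap_apply_of_ne_of_ne hva huv.symm, Equiv.swap_inv] at h
  exact h

open Subgroup Equiv Equiv.Perm
open scoped commutatorElement

variable {α : Type*} [Fintype α] [DecidableEq α]

/-- the hypotheses on the pair `(H, Q)` -/
structure Ctx (H Q : Subgroup (Perm α)) : Prop where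
  le : Q ≤ H
  normal : H ≤ normalizer (Q : Set (Perm α))
  perfect : ⁅Q, Q⁆ = Q
  small : ∀ N : Subgroup (Perm α), N ≤ Q → Q ≤ normalizer (N : Set (Perm α)) →
    N = Q ∨ N ≤ centralizer (Q : Set (Perm α))
  self : H ⊓ centralizer (Q : Set (Perm α)) ≤ Q

theorem ctx_of_genFitting (H : Subgroup (Perm α))
    (hF : Cfsg.IsQuasisimple ↥(Cfsg.generalizedFittingSubgroup ↥H)) :
    Ctx H ((Cfsg.generalizedFittingSubgroup ↥H).map H.subtype) := by
  set F := Cfsg.generalizedFittingSubgroup ↥H with hFdef
  haveI hFn : F.Normal := by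
    rw [hFdef]
    infer_instance
  have hperf : ⁅F, F⁆ = F := by
    have h := Cfsg.Lib.Components.qs_commutator_top hF
    have h2 := congrArg (Subgroup.map F.subtype) h
    rwa [map_commutator, ← MonoidHom.range_eq_map, range_subtype] at h2
  refine ⟨map_subtype_le _, ?_, ?_, ?_, ?_⟩
  · exact ((normal_subgroupOf_iff_le_normalizer (map_subtype_le F)).1 (by
      rw [subgroupOf, comap_map_eq_self_of_injective H.subtype_injective]
      exact hFn))
  · rw [← map_commutator, hperf]
  · intro N hNF hN
    set N' : Subgroup ↥F := (N.subgroupOf H).subgroupOf F with hN'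
    haveI : N'.Normal := ⟨fun n hn g => by
      show ((g * n * g⁻¹ : ↥F) : ↥H).1 ∈ N
      exact (mem_normalizer_iff.1 (hN ⟨g.1, g.2, rfl⟩) _).1 hn⟩
    rcases Cfsg.Lib.Components.qs_subnormal_eq_top_or_le_center hF
      (Normal.isSubnormal (inferInstance : N'.Normal)) with h | h
    · left
      refine le_antisymm hNF ?_
      rintro _ ⟨x, hx, rfl⟩
      exact (h ▸ mem_top (⟨x, hx⟩ : ↥F) : (⟨x, hx⟩ : ↥F) ∈ N')
    · right
      intro x hx
      obtain ⟨y, hy, rfl⟩ := hNF hx
      refine mem_centralizer_iff.2 ?_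
      rintro _ ⟨z, hz, rfl⟩
      have hc := mem_center_iff.1 (h (show (⟨y, hy⟩ : ↥F) ∈ N' from hx)) ⟨z, hz⟩
      exact congrArg (fun w : ↥F => ((w : ↥H) : Perm α)) hc
  · intro x hx
    obtain ⟨hxH, hxC⟩ := mem_inf.1 hx
    refine ⟨⟨x, hxH⟩, Cfsg.Lib.Components.centralizer_genFitting_le ?_, rfl⟩
    exact mem_centralizer_iff.2 fun q hq => Subtype.ext (mem_centralizer_iff.1 hxC q ⟨q, hq, rfl⟩)

theorem eq_bot_of_perfect_solvable {G : Type*} [Group G] {X : Subgroup G}
    (hX : ⁅X, X⁆ = X) (hs : Group.IsSolvable X) : X = ⊥ := by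
  by_contra hne
  haveI := hs
  have hne' : (⊤ : Subgroup X) ≠ ⊥ := by
    intro h
    refine hne ((eq_bot_iff_forall X).2 fun x hx => ?_)
    have h1 : (⟨x, hx⟩ : X) ∈ (⊥ : Subgroup X) := h ▸ mem_top _
    exact congrArg Subtype.val (mem_bot.1 h1)
  have h := Group.IsSolvable.commutator_lt_of_ne_bot hne'
  have h2 : (⁅(⊤ : Subgroup X), (⊤ : Subgroup X)⁆ : Subgroup X).map X.subtype = X := by
    rw [map_commutator, ← MonoidHom.range_eq_map, range_subtype, hX]
  have h3 : ⁅(⊤ : Subgroup X), (⊤ : Subgroup X)⁆ = ⊤ := by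
    rw [← map_subtype_inj, h2, ← MonoidHom.range_eq_map, range_subtype]
  exact h.ne h3

variable {H Q : Subgroup (Perm α)}

/-- solvable normal subgroups of `H` centralize `Q` -/
theorem Ctx.solvable_centralizes (c : Ctx H Q) {N : Subgroup (Perm α)} (hNH : N ≤ H)
    (hn : H ≤ normalizer (N : Set (Perm α))) (hs : Group.IsSolvable N) :
    N ≤ centralizer (Q : Set (Perm α)) := by
  have hQN : Q ≤ normalizer ((N ⊓ Q : Subgroup (Perm α)) : Set (Perm α)) :=
    fun x hx => mem_normalizer_iff.2 fun y => by
      rw [mem_inf, mem_inf]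
      exact and_congr (mem_normalizer_iff.1 (hn (c.le hx)) y) (mem_normalizer_iff.1 (le_normalizer hx) y)
  rcases c.small (N ⊓ Q) inf_le_right hQN with h | h
  · have hQs : Group.IsSolvable Q := by
      haveI := hs
      exact Cfsg.Lib.Coprime.isSolvable_of_le (inf_eq_right.1 h) hs
    rw [eq_bot_of_perfect_solvable c.perfect hQs]
    intro x _
    exact mem_centralizer_iff.2 fun g hg => by rw [mem_bot.1 hg, one_mul, mul_one]
  · have h1 : ⁅Q, N⁆ ≤ N ⊓ Q := le_inf (le_normalizer_iff_commutator_le_right.mp (c.le.trans hn))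
      (le_normalizer_iff_commutator_le_left.mp (hNH.trans c.normal))
    have h2 : ⁅⁅Q, N⁆, Q⁆ = ⊥ := commutator_eq_bot_iff_le_centralizer.2 (h1.trans h)
    have h3 := Cfsg.Lib.Components.commutator_eq_bot_of_perfect c.perfect h2
    exact commutator_eq_bot_iff_le_centralizer.1 (by rw [commutator_comm]; exact h3)

/-- an element of `H` commuting with `Q` is trivial if `Q` preserves each of its orbits -/
theorem Ctx.eq_one_of_orbits (c : Ctx H Q) {t : Perm α} (htH : t ∈ H)
    (htQ : t ∈ centralizer (Q : Set (Perm α)))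
    (horb : ∀ q ∈ Q, ∀ a ∈ t.support, ∃ i : ℕ, q a = (t ^ i) a) : t = 1 := by
  have hc : ∀ q ∈ Q, q * t = t * q := fun q hq => mem_centralizer_iff.1 htQ q hq
  let K : Subgroup (Perm α) :=
    { carrier := {g | ∀ a ∈ t.support, g a = a}
      one_mem' := fun a _ => rfl
      mul_mem' := fun {g h} hg hh a ha => by rw [mul_apply, hh a ha, hg a ha]
      inv_mem' := fun {g} hg a ha => by rw [inv_eq_iff_eq]; exact (hg a ha).symm }
  have hQK : Q ≤ K := by
    rw [← c.perfect, commutator_le]
    intro q hq r hr a ha
    have hq' : Commute q t := hc q hq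
    have hr' : Commute r t := hc r hr
    set b := (r * q)⁻¹ a with hb
    have hab : (r * q) b = a := apply_inv' _ _
    have htc : Commute (r * q) t := hr'.mul_left hq'
    have hmem : b ∈ t.support := by
      rw [mem_support] at ha ⊢
      intro h
      apply ha
      calc t a = (t * (r * q)) b := by rw [mul_apply t, hab]
        _ = ((r * q) * t) b := by rw [htc.eq]
        _ = a := by rw [mul_apply _ t, h, hab]
    have h2 : ⁅q, r⁆ * (r * q) = q * r := by
      rw [commutatorElement_def]
      group
    obtain ⟨i, hi⟩ := horb q hq b hmem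
    obtain ⟨j, hj⟩ := horb r hr b hmem
    have e1 : q ((t ^ j) b) = (t ^ j) (q b) := congrArg (fun f : Perm α => f b) (hq'.pow_right j).eq
    have e2 : r ((t ^ i) b) = (t ^ i) (r b) := congrArg (fun f : Perm α => f b) (hr'.pow_right i).eq
    have e3 : (t ^ j) ((t ^ i) b) = (t ^ i) ((t ^ j) b) :=
      congrArg (fun f : Perm α => f b) (Commute.pow_pow_self t j i).eq
    calc ⁅q, r⁆ a = (⁅q, r⁆ * (r * q)) b := by rw [mul_apply ⁅q, r⁆, hab]
      _ = (q * r) b := by rw [h2]
      _ = (t ^ j) ((t ^ i) b) := by rw [mul_apply, hj, e1, hi]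
      _ = (r * q) b := by rw [e3, mul_apply, hi, e2, hj]
      _ = a := hab
  have htK : t ∈ K := hQK (c.self (mem_inf.2 ⟨htH, htQ⟩))
  by_contra hne
  obtain ⟨a, ha⟩ := Finset.nonempty_iff_ne_empty.2 (fun h => hne (support_eq_empty_iff.1 h))
  exact mem_support.1 ha (htK a ha)

/-- an involution of `H` moving at most eight points does not centralize `Q` -/
theorem Ctx.eq_one_of_involution (c : Ctx H Q) {t : Perm α} (htH : t ∈ H)
    (htQ : t ∈ centralizer (Q : Set (Perm α))) (ht2 : t * t = 1) (ht8 : t.support.card ≤ 8) :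
    t = 1 := by
  have hc : ∀ q ∈ Q, ∀ a, q (t a) = t (q a) := fun q hq a =>
    congrArg (fun f : Perm α => f a) (mem_centralizer_iff.1 htQ q hq)
  have htt : ∀ a, t (t a) = a := fun a => congrArg (fun f : Perm α => f a) ht2
  set B : Finset (Finset α) := t.support.image fun a => {a, t a} with hB
  have hmove : ∀ q ∈ Q, ∀ a ∈ t.support, q a ∈ t.support := by
    intro q hq a ha
    rw [mem_support] at ha ⊢
    rw [← hc q hq]
    exact fun h => ha (q.injective h)
  -- at most four pairs
  have hBcard : B.card ≤ 4 := by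
    have hdisj : ∀ s ∈ B, s.card = 2 := by
      intro s hs
      obtain ⟨a, ha, rfl⟩ := Finset.mem_image.1 hs
      exact Finset.card_pair (Ne.symm (mem_support.1 ha))
    have hpd : (B : Set (Finset α)).PairwiseDisjoint id := by
      intro s hs u hu hne
      obtain ⟨a, ha, rfl⟩ := Finset.mem_image.1 hs
      obtain ⟨b, hb, rfl⟩ := Finset.mem_image.1 hu
      refine Finset.disjoint_left.2 fun x hxa hxb => hne ?_
      simp only [id, Finset.mem_insert, Finset.mem_singleton] at hxa hxb
      rcases hxa with rfl | rfl <;> rcases hxb with h | h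
      · rw [h]
      · rw [h, htt, Finset.pair_comm]
      · rw [← h, htt, Finset.pair_comm]
      · rw [t.injective h]
    have hU : (B.biUnion id).card = 2 * B.card := by
      rw [Finset.card_biUnion hpd]
      simp only [id]
      rw [Finset.sum_congr rfl hdisj]
      simp [mul_comm]
    have hsub : B.biUnion id ⊆ t.support := by
      intro x hx
      obtain ⟨s, hs, hxs⟩ := Finset.mem_biUnion.1 hx
      obtain ⟨a, ha, rfl⟩ := Finset.mem_image.1 hs
      simp only [id, Finset.mem_insert, Finset.mem_singleton] at hxs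
      rcases hxs with rfl | rfl
      · exact ha
      · rwa [apply_mem_support]
    have := Finset.card_le_card hsub
    omega
  -- the action on the pairs
  have hBq : ∀ q : Q, ∀ s ∈ B, s.image (q : Perm α) ∈ B := by
    intro q s hs
    obtain ⟨a, ha, rfl⟩ := Finset.mem_image.1 hs
    exact Finset.mem_image.2 ⟨(q : Perm α) a, hmove q q.2 a ha, by simp [hc q q.2]⟩
  let f : ↥Q →* Perm ↥B :=
    MonoidHom.toHomPerm
      { toFun := fun q (s : ↥B) => (⟨s.1.image (q : Perm α), hBq q s.1 s.2⟩ : ↥B)
        map_one' := by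
          funext s
          refine Subtype.ext ?_
          show s.1.image ((1 : Perm α) : α → α) = s.1
          simp
        map_mul' := fun q r => by
          funext s
          refine Subtype.ext ?_
          show s.1.image (((q : Perm α) * (r : Perm α) : Perm α) : α → α) = (s.1.image (r : Perm α)).image (q : Perm α)
          rw [Finset.image_image]
          rfl }
  have hf : f.range = ⊥ := by
    refine eq_bot_of_perfect_solvable ?_ ?_
    · rw [MonoidHom.range_eq_map, ← map_commutator]
      congr 1
      rw [← map_subtype_inj, map_commutator, ← MonoidHom.range_eq_map, range_subtype, c.perfect]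
    · refine Cfsg.Lib.Presentations.isSolvable_of_card_lt_sixty _ _ rfl ?_
      refine lt_of_le_of_lt (Subgroup.card_le_card_group _) ?_
      rw [Nat.card_perm, Nat.card_eq_fintype_card, Fintype.card_coe]
      have := Nat.factorial_le hBcard
      try simp only [id] at *
      have h24 : Nat.factorial 4 = 24 := rfl
      omega
  refine c.eq_one_of_orbits htH htQ fun q hq a ha => ?_
  have h1 : f ⟨q, hq⟩ = 1 := mem_bot.1 (hf ▸ ⟨⟨q, hq⟩, rfl⟩)
  have h2 := congrArg (fun g : Perm ↥B => (g ⟨{a, t a}, Finset.mem_image.2 ⟨a, ha, rfl⟩⟩).1) h1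
  have h3 : q a ∈ ({a, t a} : Finset α) := by
    have h4 : ({a, t a} : Finset α).image q = {a, t a} := h2
    rw [← h4]
    exact Finset.mem_image_of_mem q (Finset.mem_insert_self _ _)
  simp only [Finset.mem_insert, Finset.mem_singleton] at h3
  rcases h3 with h | h
  · exact ⟨0, h⟩
  · exact ⟨1, by rw [pow_one]; exact h⟩

/-- the even permutations supported on `Δ` -/
def altOn (Δ : Finset α) : Subgroup (Perm α) :=
  (alternatingGroup ↥Δ).map (Perm.ofSubtype : Perm ↥Δ →* Perm α)

theorem mem_altOn {Δ : Finset α} {g : Perm α} :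
    g ∈ altOn Δ ↔ g.support ⊆ Δ ∧ sign g = 1 := by
  rw [altOn, alternatingGroup.map_ofSubtype, mem_inf, Perm.mem_range_ofSubtype_iff,
    Perm.mem_alternatingGroup]
  refine and_congr_left fun _ => ?_
  simp only [Finset.subset_iff, Set.subset_def, Finset.mem_coe, Set.mem_ofPred_eq]

theorem swap_mul_swap_mem_altOn {Δ : Finset α} {a u v : α} (ha : a ∈ Δ) (hu : u ∈ Δ) (hv : v ∈ Δ)
    (hau : a ≠ u) (hav : a ≠ v) : swap a u * swap a v ∈ altOn Δ := by
  refine mem_altOn.2 ⟨(support_mul_le _ _).trans ?_, by rw [map_mul, sign_swap hau, sign_swap hav]; rfl⟩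
  rw [support_swap hau, support_swap hav]
  intro x hx
  simp only [Finset.sup_eq_union, Finset.mem_union, Finset.mem_insert, Finset.mem_singleton] at hx
  rcases hx with (rfl | rfl) | rfl | rfl <;> assumption

theorem altOn_le {G : Subgroup (Perm α)} {R : Finset α} {a : α} (ha : a ∈ R)
    (hT : ∀ u ∈ R, ∀ v ∈ R, u ≠ a → v ≠ a → u ≠ v → swap a u * swap a v ∈ G) : altOn R ≤ G := by
  have hT' : ∀ u ∈ R, ∀ v ∈ R, u ≠ a → v ≠ a → swap a u * swap a v ∈ G := by
    intro u hu v hv hua hva
    rcases eq_or_ne u v with rfl | h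
    · rw [swap_mul_self]; exact G.one_mem
    · exact hT u hu v hv hua hva h
  rw [altOn, map_le_iff_le_comap, ← closure_three_cycles_eq_alternating, closure_le]
  intro σ hσ
  show Perm.ofSubtype σ ∈ G
  set g := Perm.ofSubtype σ with hg
  have hg3 : g.IsThreeCycle := by
    rw [← card_support_eq_three_iff, hg]
    have hσ' : σ.IsThreeCycle := hσ
    have h := IsThreeCycle.card_support hσ'
    convert h using 1
    rw [← Finset.card_map (Function.Embedding.subtype (· ∈ R)) (s := σ.support)]
    congr 1
    convert support_ofSubtype σ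
  have hgR : g.support ⊆ R := by
    intro x hx
    by_contra hxR
    exact mem_support.1 hx (ofSubtype_apply_of_not_mem σ hxR)
  by_cases hga : a ∈ g.support
  · rw [(hg3.eq_swap_mul_swap_iff_mem_support).2 hga]
    have hy := apply_mem_support.2 hga
    have hz := apply_mem_support.2 hy
    have hn := (hg3.nodup_iff_mem_support).2 hga
    simp only [List.nodup_cons, List.mem_cons, List.not_mem_nil, or_false] at hn
    set y := g a
    set z := g y
    have hay : a ≠ y := fun h => hn.1 (Or.inl h)
    have haz : a ≠ z := fun h => hn.1 (Or.inr h)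
    have hyz : y ≠ z := hn.2.1
    have e : swap y z = swap a y * swap a z * swap a y := swap_via haz.symm hyz
    rw [e]
    simp only [← mul_assoc, swap_mul_self, one_mul]
    exact hT' z (hgR hz) y (hgR hy) haz.symm hay.symm
  · obtain ⟨x, hx⟩ := Finset.card_pos.1 (by rw [hg3.card_support]; omega : 0 < g.support.card)
    rw [(hg3.eq_swap_mul_swap_iff_mem_support).2 hx]
    have hy := apply_mem_support.2 hx
    have hz := apply_mem_support.2 hy
    have hn := (hg3.nodup_iff_mem_support).2 hx
    simp only [List.nodup_cons, List.mem_cons, List.not_mem_nil, or_false] at hn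
    set y := g x
    set z := g y
    have hxy : x ≠ y := fun h => hn.1 (Or.inl h)
    have hyz : y ≠ z := hn.2.1
    have hxa : x ≠ a := fun h => hga (h ▸ hx)
    have hya : y ≠ a := fun h => hga (h ▸ hy)
    have hza : z ≠ a := fun h => hga (h ▸ hz)
    have e : ∀ u v : α, u ≠ a → u ≠ v → v ≠ a → swap u v = swap a u * swap a v * swap a u :=
      fun u v _ huv hva => swap_via hva huv
    rw [e x y hxa hxy hya, e y z hya hyz hza]
    have h1 := hT' x (hgR hx) y (hgR hy) hxa hya
    have h2 := hT' z (hgR hz) y (hgR hy) hza hya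
    have e2 : swap a x * swap a y * swap a x * (swap a y * swap a z * swap a y) =
        swap a x * swap a y * (swap a x * swap a y) * (swap a z * swap a y) := by
      simp only [mul_assoc]
    rw [e2]
    exact G.mul_mem (G.mul_mem h1 h1) h2

theorem altOn_union {G : Subgroup (Perm α)} {D E : Finset α} (hD : altOn D ≤ G) (hE : altOn E ≤ G)
    (hD3 : 3 ≤ D.card) (hE3 : 3 ≤ E.card) {a : α} (haD : a ∈ D) (haE : a ∈ E) :
    altOn (D ∪ E) ≤ G := by
  have conjT : ∀ g ∈ G, ∀ p q r : α, swap p q * swap p r ∈ G →
      swap (g p) (g q) * swap (g p) (g r) ∈ G := by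
    intro g hg p q r h
    have h2 := G.mul_mem (G.mul_mem hg h) (G.inv_mem hg)
    rw [swap_apply_apply, swap_apply_apply]
    convert h2 using 1
    group
  refine altOn_le (Finset.mem_union_left _ haD) ?_
  have key : ∀ u v, u ∈ D → u ∉ E → v ∈ E → v ∉ D → swap a v * swap a u ∈ G := by
    intro u v hu huE hv hvD
    have hua : u ≠ a := fun h => huE (h ▸ haE)
    have hva : v ≠ a := fun h => hvD (h ▸ haD)
    have huv : u ≠ v := fun h => hvD (h ▸ hu)
    obtain ⟨c, hc, hca, hcv⟩ : ∃ c ∈ E, c ≠ a ∧ c ≠ v := by
      have : 0 < ((E.erase a).erase v).card := by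
        rw [Finset.card_erase_of_mem (Finset.mem_erase.2 ⟨hva, hv⟩), Finset.card_erase_of_mem haE]
        omega
      obtain ⟨c, hc⟩ := Finset.card_pos.1 this
      simp only [Finset.mem_erase] at hc
      exact ⟨c, hc.2.2, hc.2.1, hc.1⟩
    have hcu : c ≠ u := fun h => huE (h ▸ hc)
    have hEc : swap a c * swap a v ∈ G := hE (swap_mul_swap_mem_altOn haE hc hv hca.symm hva.symm)
    by_cases hcD : c ∈ D
    · -- `g : a ↦ u, c ↦ a`
      set g := swap a u * swap a c with hg
      have hgG : g ∈ G := hD (swap_mul_swap_mem_altOn haD hu hcD hua.symm hca.symm)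
      have g1 : g c = u := by simp [hg]
      have g2 : g a = c := by
        simp [hg, swap_apply_of_ne_of_ne hca hcu]
      have g3 : g v = v := by
        simp [hg, swap_apply_of_ne_of_ne hva hcv.symm, swap_apply_of_ne_of_ne hva huv.symm]
      have h := conjT g hgG a c v hEc
      rw [g1, g2, g3] at h
      -- rotate twice
      have e : swap c u * swap c v ∈ G := h
      -- conjugate by the inverse of `(a c v)`
      have h4 := conjT (swap a c * swap a v)⁻¹ (G.inv_mem hEc) c u v e
      have i1 : (swap a c * swap a v)⁻¹ c = v := by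
        simp [mul_inv_rev, swap_inv, swap_apply_of_ne_of_ne hca hcv]
      have i2 : (swap a c * swap a v)⁻¹ u = u := by
        simp [mul_inv_rev, swap_inv, swap_apply_of_ne_of_ne hua hcu.symm,
          swap_apply_of_ne_of_ne hua huv]
      have i3 : (swap a c * swap a v)⁻¹ v = a := by
        simp [mul_inv_rev, swap_inv, swap_apply_of_ne_of_ne hva hcv.symm]
      rw [i1, i2, i3, swap_rotate huv.symm hva hua] at h4
      exact h4
    · obtain ⟨b, hb, hba, hbu⟩ : ∃ b ∈ D, b ≠ a ∧ b ≠ u := by
        have : 0 < ((D.erase a).erase u).card := by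
          rw [Finset.card_erase_of_mem (Finset.mem_erase.2 ⟨hua, hu⟩),
            Finset.card_erase_of_mem haD]
          omega
        obtain ⟨c, hc⟩ := Finset.card_pos.1 this
        simp only [Finset.mem_erase] at hc
        exact ⟨c, hc.2.2, hc.2.1, hc.1⟩
      have hcb : c ≠ b := fun h => hcD (h ▸ hb)
      have hvb : v ≠ b := fun h => hvD (h ▸ hb)
      -- `g : a ↦ u` fixing `c` and `v`
      set g := swap a u * swap a b with hg
      have hgG : g ∈ G := hD (swap_mul_swap_mem_altOn haD hu hb hua.symm hba.symm)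
      have g1 : g b = u := by simp [hg]
      have g2 : g⁻¹ a = u := by simp [hg, swap_apply_of_ne_of_ne hua hbu.symm]
      have g3 : g⁻¹ v = v := by
        simp [hg, swap_apply_of_ne_of_ne hva hvb, swap_apply_of_ne_of_ne hva huv.symm]
      have g4 : g⁻¹ c = c := by
        simp [hg, swap_apply_of_ne_of_ne hca hcb, swap_apply_of_ne_of_ne hca hcu]
      have h := conjT g⁻¹ (G.inv_mem hgG) a c v hEc
      rw [g2, g3, g4] at h
      -- `h = (u v c)`; conjugate `(a c v)` by it
      set k := swap u c * swap u v with hk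
      have k1 : k a = a := by
        simp [hk, swap_apply_of_ne_of_ne hua.symm hva.symm, swap_apply_of_ne_of_ne hua.symm hca.symm]
      have k2 : k c = u := by
        simp [hk, swap_apply_of_ne_of_ne hcu hcv]
      have k3 : k v = c := by simp [hk]
      have h4 := conjT k h a c v hEc
      rw [k1, k2, k3] at h4
      -- `h4 = (a u c)`; combine with `(a c v)`
      have h5 := G.mul_mem (G.inv_mem hEc) (G.inv_mem h4)
      have e5 : (swap a c * swap a v)⁻¹ * (swap a u * swap a c)⁻¹ = swap a v * swap a u := by
        simp [mul_assoc, mul_inv_rev, swap_inv]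
      rwa [e5] at h5
  intro u hu v hv hua hva huv
  rw [Finset.mem_union] at hu hv
  by_cases huD : u ∈ D
  · by_cases hvD : v ∈ D
    · exact hD (swap_mul_swap_mem_altOn haD huD hvD hua.symm hva.symm)
    · have hvE : v ∈ E := hv.resolve_left hvD
      by_cases huE : u ∈ E
      · exact hE (swap_mul_swap_mem_altOn haE huE hvE hua.symm hva.symm)
      · have := G.inv_mem (key u v huD huE hvE hvD)
        rwa [mul_inv_rev, swap_inv, swap_inv] at this
  · have huE : u ∈ E := hu.resolve_left huD
    by_cases hvE : v ∈ E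
    · exact hE (swap_mul_swap_mem_altOn haE huE hvE hua.symm hva.symm)
    · exact key v u (hv.resolve_right hvE) hvE huE huD

theorem altOn_support_le {G : Subgroup (Perm α)} {d : Perm α} (hd : d.IsThreeCycle) (hdG : d ∈ G) :
    altOn d.support ≤ G := by
  obtain ⟨a, ha⟩ := Finset.card_pos.1 (by rw [hd.card_support]; omega : 0 < d.support.card)
  refine altOn_le ha fun u hu v hv hua hva huv => ?_
  have hs := (hd.support_eq_iff_mem_support).2 ha
  have hn := (hd.nodup_iff_mem_support).2 ha
  simp only [List.nodup_cons, List.mem_cons, List.not_mem_nil, or_false] at hn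
  have he := (hd.eq_swap_mul_swap_iff_mem_support).2 ha
  set y := d a
  set z := d y
  have hay : a ≠ y := fun h => hn.1 (Or.inl h)
  have haz : a ≠ z := fun h => hn.1 (Or.inr h)
  have e : swap y z = swap a y * swap a z * swap a y := swap_via haz.symm hn.2.1
  have hd' : d = swap a z * swap a y := by
    rw [he, e]
    simp only [← mul_assoc, swap_mul_self, one_mul]
  rw [hs] at hu hv
  simp only [Finset.mem_insert, Finset.mem_singleton] at hu hv
  rcases hu with rfl | rfl | rfl
  · exact absurd rfl hua
  · rcases hv with rfl | rfl | rfl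
    · exact absurd rfl hva
    · exact absurd rfl huv
    · have := G.inv_mem hdG
      rwa [hd', mul_inv_rev, swap_inv, swap_inv] at this
  · rcases hv with rfl | rfl | rfl
    · exact absurd rfl hva
    · rwa [hd'] at hdG
    · exact absurd rfl huv

theorem map_altOn (Δ : Finset α) (g : Perm α) :
    (altOn Δ).map (MulAut.conj g).toMonoidHom = altOn (Δ.image g) := by
  ext x
  rw [mem_map_equiv, mem_altOn, mem_altOn, MulAut.conj_symm_apply]
  refine and_congr ?_ ?_
  · simp only [Finset.subset_iff, mem_support, mul_apply, Finset.mem_image]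
    constructor
    · intro h p hp
      refine ⟨g⁻¹ p, h ?_, by simp⟩
      rw [apply_inv']
      exact fun e => hp (g⁻¹.injective e)
    · intro h p hp
      obtain ⟨q, hq, hqe⟩ := h (x := g p) (fun e => hp (by rw [e, inv_apply']))
      rwa [← g.injective hqe]
  · rw [map_mul, map_mul, map_inv]
    rw [mul_comm (sign g)⁻¹, mul_assoc, inv_mul_cancel, mul_one]

theorem commute_altOn {D E : Finset α} (h : Disjoint D E) :
    altOn D ≤ centralizer (altOn E : Set (Perm α)) := fun _ hg =>
  mem_centralizer_iff.2 fun _ hk =>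
    (Disjoint.commute (disjoint_iff_disjoint_support.2
      (Finset.disjoint_of_subset_left (mem_altOn.1 hg).1
        (Finset.disjoint_of_subset_right (mem_altOn.1 hk).1 h)))).eq.symm

/-- `(x * y) ^ 2` for two involutions sharing exactly one moved point -/
theorem threeCycle_of_meet {x y : Perm α} (hx : x * x = 1) (hy : y * y = 1) {a : α}
    (h : x.support ∩ y.support = {a}) : ((x * y) * (x * y)).IsThreeCycle := by
  have hxx : ∀ p, x (x p) = p := fun p => congrArg (fun f : Perm α => f p) hx
  have hyy : ∀ p, y (y p) = p := fun p => congrArg (fun f : Perm α => f p) hy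
  have hmem : ∀ p, p ∈ x.support → p ∈ y.support → p = a := fun p h1 h2 => by
    have : p ∈ x.support ∩ y.support := Finset.mem_inter.2 ⟨h1, h2⟩
    rw [h] at this
    exact Finset.mem_singleton.1 this
  have ha : a ∈ x.support ∩ y.support := h ▸ Finset.mem_singleton_self a
  obtain ⟨hax, hay⟩ := Finset.mem_inter.1 ha
  have hxa : x a ≠ a := mem_support.1 hax
  have hya : y a ≠ a := mem_support.1 hay
  have fx : ∀ p, p ∈ y.support → p ≠ a → x p = p := fun p h1 h2 =>
    notMem_support.1 fun h3 => h2 (hmem p h3 h1)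
  have fy : ∀ p, p ∈ x.support → p ≠ a → y p = p := fun p h1 h2 =>
    notMem_support.1 fun h3 => h2 (hmem p h1 h3)
  have hxy : x a ≠ y a := fun e => hya (by
    have := hmem (x a) (apply_mem_support.2 hax) (e ▸ apply_mem_support.2 hay)
    rw [← e, this])
  rw [← card_support_eq_three_iff]
  suffices hs : ((x * y) * (x * y)).support = {a, x a, y a} by
    rw [hs]
    simp [hxa.symm, hya.symm, hxy]
  have fxy := fy (x a) (apply_mem_support.2 hax) hxa
  have fyx := fx (y a) (apply_mem_support.2 hay) hya
  ext p
  simp only [mem_support, mul_apply, Finset.mem_insert, Finset.mem_singleton]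
  constructor
  · intro hp
    by_contra hne
    push Not at hne
    obtain ⟨h1, h2, h3⟩ := hne
    apply hp
    by_cases hpx : p ∈ x.support
    · rw [fy p hpx h1, fy (x p) (apply_mem_support.2 hpx) (fun e => h2 (by rw [← e, hxx])), hxx]
    · by_cases hpy : p ∈ y.support
      · rw [fx (y p) (apply_mem_support.2 hpy) (fun e => h3 (by rw [← e, hyy])), hyy,
          notMem_support.1 hpx]
      · rw [notMem_support.1 hpy, notMem_support.1 hpx, notMem_support.1 hpy,
          notMem_support.1 hpx]
  · rintro (rfl | rfl | rfl)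
    · rw [fyx, hyy]
      exact hxa
    · rw [fxy, hxx, fyx]
      exact hxy.symm
    · rw [hyy, fxy, hxx]
      exact hya.symm

end Cfsg.Lib.AltOverSylow
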