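import Cfsg.Agent.AltOverSylow.Basic
import Cfsg.Agent.Thompson.Subgroup

/-!
Subgroups of symmetric groups which contain a Sylow two-subgroup of the alternating group and have
quasisimple generalized Fitting subgroup.
-/

set_option linter.style.haveILetI false
set_option maxHeartbeats 400000

namespace Cfsg.Lib.AltOverSylow

open Subgroup Equiv Equiv.Perm
open scoped commutatorElement

variable {α : Type*} [Fintype α] [DecidableEq α] {H Q : Subgroup (Perm α)}

/-- if the points pair up with all products of two pairs in `H`, then `H` contains a three-cycle -/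
theorem exists_threeCycle (c : Ctx H Q) {k : ℕ} (hk : 4 ≤ k) (hn : Fintype.card α ≤ 2 * k + 1)
    (A B : Fin k → α) (hA : A.Injective) (hB : B.Injective) (hAB : ∀ i j, A i ≠ B j)
    (hX : ∀ i j, i ≠ j → swap (A i) (B i) * swap (A j) (B j) ∈ H) :
    ∃ d ∈ H, d.IsThreeCycle := by
  by_contra hno
  push Not at hno
  set U : Finset α := Finset.univ.image A ∪ Finset.univ.image B with hU
  have hAU : ∀ i, A i ∈ U := fun i => Finset.mem_union_left _ (Finset.mem_image_of_mem A (Finset.mem_univ i))
  have hBU : ∀ i, B i ∈ U := fun i => Finset.mem_union_right _ (Finset.mem_image_of_mem B (Finset.mem_univ i))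
  have hUcard : U.card = 2 * k := by
    rw [hU, Finset.card_union_of_disjoint, Finset.card_image_of_injective _ hA,
      Finset.card_image_of_injective _ hB, Finset.card_univ, Fintype.card_fin]
    · omega
    · rw [Finset.disjoint_left]
      intro x hx hx'
      obtain ⟨i, -, rfl⟩ := Finset.mem_image.1 hx
      obtain ⟨j, -, hj⟩ := Finset.mem_image.1 hx'
      exact hAB i j hj.symm
  let X : Fin k → Fin k → Perm α := fun i j => swap (A i) (B i) * swap (A j) (B j)
  have hXs : ∀ i j, i ≠ j → (X i j).support = {A i, B i, A j, B j} := by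
    intro i j hij
    have hd : Disjoint (swap (A i) (B i)) (swap (A j) (B j)) := by
      rw [disjoint_iff_disjoint_support, support_swap (hAB i i), support_swap (hAB j j)]
      simp [hA.eq_iff, hB.eq_iff, hAB, Ne.symm (hAB _ _), hij, Ne.symm hij]
    rw [hd.support_mul, support_swap (hAB i i), support_swap (hAB j j)]
    ext x
    simp only [Finset.mem_union, Finset.mem_insert, Finset.mem_singleton]
    tauto
  have hX2 : ∀ i j, i ≠ j → X i j * X i j = 1 := by
    intro i j hij
    have hd : Commute (swap (A i) (B i)) (swap (A j) (B j)) := by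
      refine Disjoint.commute ?_
      rw [disjoint_iff_disjoint_support, support_swap (hAB i i), support_swap (hAB j j)]
      simp [hA.eq_iff, hB.eq_iff, hAB, Ne.symm (hAB _ _), hij, Ne.symm hij]
    show swap (A i) (B i) * swap (A j) (B j) * (swap (A i) (B i) * swap (A j) (B j)) = 1
    rw [hd.symm.mul_mul_mul_comm, swap_mul_self, swap_mul_self, one_mul]
  -- a double transposition meets every pair twice or not at all, or every pair once
  let D : Perm α → Prop := fun y => y ∈ H ∧ y.support.card = 4 ∧ y * y = 1
  have hstruct : ∀ y, D y → y.support ⊆ U ∧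
      ((∀ i, A i ∈ y.support ↔ B i ∈ y.support) ∨
        (k = 4 ∧ ∀ i, A i ∈ y.support ↔ B i ∉ y.support)) := by
    rintro y ⟨hyH, hy4, hy2⟩
    set s := y.support with hs
    by_cases hall : ∀ i, A i ∈ s ↔ B i ∈ s
    · refine ⟨?_, Or.inl hall⟩
      intro x hx
      by_contra hxU
      set I := Finset.univ.filter fun i => A i ∈ s with hI
      have h1 : s ∩ U = I.image A ∪ I.image B := by
        ext z
        simp only [hU, hI, Finset.mem_inter, Finset.mem_union, Finset.mem_image, Finset.mem_univ,
          true_and, Finset.mem_filter]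
        constructor
        · rintro ⟨hz, ⟨i, rfl⟩ | ⟨i, rfl⟩⟩
          · exact Or.inl ⟨i, hz, rfl⟩
          · exact Or.inr ⟨i, (hall i).2 hz, rfl⟩
        · rintro (⟨i, hi, rfl⟩ | ⟨i, hi, rfl⟩)
          · exact ⟨hi, Or.inl ⟨i, rfl⟩⟩
          · exact ⟨(hall i).1 hi, Or.inr ⟨i, rfl⟩⟩
      have h2 : (s ∩ U).card = 2 * I.card := by
        rw [h1, Finset.card_union_of_disjoint, Finset.card_image_of_injective _ hA,
          Finset.card_image_of_injective _ hB]
        · omega
        · rw [Finset.disjoint_left]
          intro z hz hz'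
          obtain ⟨i, -, rfl⟩ := Finset.mem_image.1 hz
          obtain ⟨j, -, hj⟩ := Finset.mem_image.1 hz'
          exact hAB i j hj.symm
      have h3 : (s \ U).card + (s ∩ U).card = 4 := by rw [Finset.card_sdiff_add_card_inter, hy4]
      have h4 : 1 ≤ (s \ U).card := Finset.card_pos.2 ⟨x, Finset.mem_sdiff.2 ⟨hx, hxU⟩⟩
      have h5 : (s \ U).card ≤ (Uᶜ).card := Finset.card_le_card fun z hz =>
        Finset.mem_compl.2 (Finset.mem_sdiff.1 hz).2
      rw [Finset.card_compl, hUcard] at h5
      omega
    · -- then every pair is met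
      push Not at hall
      obtain ⟨i, hi⟩ := hall
      have hexact : ∀ j, j ≠ i → A j ∈ s ∨ B j ∈ s := by
        intro j hji
        by_contra hj
        push Not at hj
        have hsupp : ∃ a, (X i j).support ∩ s = {a} := by
          rcases hi with ⟨h1, h2⟩ | ⟨h1, h2⟩
          · refine ⟨A i, ?_⟩
            rw [hXs i j hji.symm]
            ext z
            simp only [Finset.mem_inter, Finset.mem_insert, Finset.mem_singleton]
            constructor
            · rintro ⟨rfl | rfl | rfl | rfl, hz⟩
              · rfl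
              · exact absurd hz h2
              · exact absurd hz hj.1
              · exact absurd hz hj.2
            · rintro rfl; exact ⟨Or.inl rfl, h1⟩
          · refine ⟨B i, ?_⟩
            rw [hXs i j hji.symm]
            ext z
            simp only [Finset.mem_inter, Finset.mem_insert, Finset.mem_singleton]
            constructor
            · rintro ⟨rfl | rfl | rfl | rfl, hz⟩
              · exact absurd hz h1
              · rfl
              · exact absurd hz hj.1
              · exact absurd hz hj.2
            · rintro rfl; exact ⟨Or.inr (Or.inl rfl), h2⟩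
        obtain ⟨a, ha⟩ := hsupp
        refine hno _ ?_ (threeCycle_of_meet (hX2 i j hji.symm) hy2 ha)
        exact H.mul_mem (H.mul_mem (hX i j hji.symm) hyH) (H.mul_mem (hX i j hji.symm) hyH)
      have hmeet : ∀ j, A j ∈ s ∨ B j ∈ s := by
        intro j
        rcases eq_or_ne j i with rfl | hji
        · rcases hi with h | h
          · exact Or.inl h.1
          · exact Or.inr h.2
        · exact hexact j hji
      let f : Fin k → α := fun j => if A j ∈ s then A j else B j
      have hfs : ∀ j, f j ∈ s := by
        intro j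
        simp only [f]
        split_ifs with h
        · exact h
        · exact (hmeet j).resolve_left h
      have hfi : f.Injective := by
        intro p q h
        simp only [f] at h
        split_ifs at h
        · exact hA h
        · exact absurd h (hAB p q)
        · exact absurd h.symm (hAB q p)
        · exact hB h
      have himg : (Finset.univ.image f).card = k := by
        rw [Finset.card_image_of_injective _ hfi, Finset.card_univ, Fintype.card_fin]
      have hsub : Finset.univ.image f ⊆ s := Finset.image_subset_iff.2 fun j _ => hfs j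
      have hk4 : k = 4 := by
        have := Finset.card_le_card hsub
        omega
      have heq : Finset.univ.image f = s := Finset.eq_of_subset_of_card_le hsub (by omega)
      refine ⟨?_, Or.inr ⟨hk4, fun j => ⟨fun hAj hBj => ?_, fun hBj => (hmeet j).resolve_right hBj⟩⟩⟩
      · intro z hz
        rw [← heq] at hz
        obtain ⟨j, -, rfl⟩ := Finset.mem_image.1 hz
        simp only [f]
        split_ifs
        · exact hAU j
        · exact hBU j
      · rw [← heq] at hBj
        obtain ⟨q, -, hq⟩ := Finset.mem_image.1 hBj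
        simp only [f] at hq
        split_ifs at hq with h
        · exact hAB q j hq
        · exact h (hB hq ▸ hAj)
  have hD : ∀ i j, i ≠ j → D (X i j) := by
    intro i j hij
    refine ⟨hX i j hij, ?_, hX2 i j hij⟩
    rw [hXs i j hij]
    simp [hA.eq_iff, hB.eq_iff, hAB, Ne.symm (hAB _ _), hij]
  have hthird : ∀ i j : Fin k, ∃ l, l ≠ i ∧ l ≠ j := by
    intro i j
    by_contra h
    push Not at h
    have : (Finset.univ : Finset (Fin k)) ⊆ {i, j} := fun l _ => by
      rw [Finset.mem_insert, Finset.mem_singleton]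
      exact or_iff_not_imp_left.2 (h l)
    have := (Finset.card_le_card this).trans Finset.card_le_two
    rw [Finset.card_univ, Fintype.card_fin] at this
    omega
  -- `H` preserves `U` and the supports
  have hconjD : ∀ h ∈ H, ∀ y, D y → D (h * y * h⁻¹) := by
    rintro h hh y ⟨h1, h2, h3⟩
    refine ⟨H.mul_mem (H.mul_mem hh h1) (H.inv_mem hh), ?_, ?_⟩
    · rw [support_conj, Finset.card_map]; exact h2
    · rw [show h * y * h⁻¹ * (h * y * h⁻¹) = h * (y * y) * h⁻¹ by group, h3, mul_one, mul_inv_cancel]
  have hsuppconj : ∀ (h y : Perm α), (h * y * h⁻¹).support = y.support.image h := by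
    intro h y
    rw [support_conj, Finset.map_eq_image]
    rfl
  have hUpres : ∀ h ∈ H, ∀ x ∈ U, h x ∈ U := by
    intro h hh x hx
    obtain ⟨i, hi⟩ : ∃ i, x = A i ∨ x = B i := by
      simp only [hU, Finset.mem_union, Finset.mem_image, Finset.mem_univ, true_and] at hx
      rcases hx with ⟨i, rfl⟩ | ⟨i, rfl⟩
      · exact ⟨i, Or.inl rfl⟩
      · exact ⟨i, Or.inr rfl⟩
    obtain ⟨j, hj, -⟩ := hthird i i
    refine (hstruct _ (hconjD h hh _ (hD i j hj.symm))).1 ?_
    rw [hsuppconj]
    refine Finset.mem_image_of_mem _ ?_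
    rw [hXs i j hj.symm]
    rcases hi with rfl | rfl <;> simp
  have hUimg : ∀ h ∈ H, U.image h = U := fun h hh =>
    Finset.eq_of_subset_of_card_le (Finset.image_subset_iff.2 (hUpres h hh))
      (by rw [Finset.card_image_of_injective _ h.injective])
  have hUinv : ∀ h ∈ H, ∀ x, h x ∈ U ↔ x ∈ U := by
    intro h hh x
    refine ⟨fun hx => ?_, hUpres h hh x⟩
    rw [← hUimg h hh, Finset.mem_image] at hx
    obtain ⟨y, hy, hyx⟩ := hx
    exact h.injective hyx ▸ hy
  have hsd : ∀ g ∈ H, ∀ s : Finset α, (U \ s).image g = U \ s.image g := fun g hg s => by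
    rw [Finset.image_sdiff _ _ g.injective, hUimg g hg]
  have hss : ∀ y, D y → U \ (U \ y.support) = y.support := fun y hy => by
    rw [Finset.sdiff_sdiff_self_left]
    exact Finset.inter_eq_right.2 (hstruct y hy).1
  let good : Perm α → Prop := fun g => g ∈ H ∧ (∀ x, x ∉ U → g x = x) ∧
    ∀ y, D y → y.support.image g = y.support ∨ y.support.image g = U \ y.support
  let T : Subgroup (Perm α) :=
    { carrier := {g | good g}
      one_mem' := ⟨H.one_mem, fun x _ => rfl, fun y _ => Or.inl (by simp)⟩
      mul_mem' := by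
        rintro g g' ⟨h1, h2, h3⟩ ⟨h1', h2', h3'⟩
        refine ⟨H.mul_mem h1 h1', fun x hx => by rw [mul_apply, h2' x hx, h2 x hx], fun y hy => ?_⟩
        have e : y.support.image (g * g') = (y.support.image g').image g := by
          rw [Finset.image_image]; rfl
        rw [e]
        rcases h3' y hy with h | h <;> rw [h]
        · exact h3 y hy
        · rw [hsd g h1]
          rcases h3 y hy with h4 | h4 <;> rw [h4]
          · exact Or.inr rfl
          · exact Or.inl (hss y hy)
      inv_mem' := by
        rintro g ⟨h1, h2, h3⟩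
        refine ⟨H.inv_mem h1, fun x hx => by
          conv_lhs => rw [← h2 x hx]
          exact inv_apply' g x, fun y hy => ?_⟩
        have e : ∀ s t : Finset α, s.image g = t → t.image (g⁻¹ : Perm α) = s := by
          intro s t h
          rw [← h, Finset.image_image]
          have : ((g⁻¹ : Perm α) : α → α) ∘ g = id := funext fun x => inv_apply' g x
          rw [this, Finset.image_id]
        rcases h3 y hy with h | h
        · exact Or.inl (e _ _ h)
        · refine Or.inr (e _ _ ?_)
          rw [hsd g h1, h, hss y hy] }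
  have hTn : H ≤ normalizer (T : Set (Perm α)) := by
    have hmain : ∀ h ∈ H, ∀ g ∈ T, h * g * h⁻¹ ∈ T := by
      rintro h hh g ⟨h1, h2, h3⟩
      refine ⟨H.mul_mem (H.mul_mem hh h1) (H.inv_mem hh), fun x hx => ?_, fun y hy => ?_⟩
      · rw [mul_apply, mul_apply, h2 _ (fun h' => hx ((hUinv _ (H.inv_mem hh) x).1 h')), apply_inv']
      · have hy' := hconjD _ (H.inv_mem hh) y hy
        rw [inv_inv] at hy'
        have hs' : (h⁻¹ * y * h).support = y.support.image (h⁻¹ : Perm α) := by
          have := hsuppconj h⁻¹ y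
          rwa [inv_inv] at this
        have e : y.support.image (h * g * h⁻¹) = (((h⁻¹ * y * h).support).image g).image h := by
          rw [hs', Finset.image_image, Finset.image_image]; rfl
        have e2 : (h⁻¹ * y * h).support.image h = y.support := by
          rw [hs', Finset.image_image]
          have : (h : α → α) ∘ ((h⁻¹ : Perm α) : α → α) = id := funext fun x => apply_inv' h x
          rw [this, Finset.image_id]
        rw [e]
        rcases h3 _ hy' with h4 | h4 <;> rw [h4]
        · exact Or.inl e2
        · rw [hsd h hh, e2]; exact Or.inr rfl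
    intro h hh
    rw [mem_normalizer_iff]
    refine fun g => ⟨hmain h hh g, fun hg => ?_⟩
    have := hmain h⁻¹ (H.inv_mem hh) _ hg
    simpa [mul_assoc] using this
  -- the elements fixing all supports
  let T₀ : Subgroup T :=
    { carrier := {g | ∀ y, D y → y.support.image (g : Perm α) = y.support}
      one_mem' := fun y _ => by simp
      mul_mem' := fun {g g'} h h' y hy => by
        show y.support.image ((g : Perm α) * (g' : Perm α) : Perm α) = y.support
        rw [show (((g : Perm α) * (g' : Perm α) : Perm α) : α → α) = (g : Perm α) ∘ (g' : Perm α) from rfl,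
          ← Finset.image_image, h' y hy, h y hy]
      inv_mem' := fun {g} h y hy => by
        conv_lhs => rw [← h y hy, Finset.image_image]
        have : (((g⁻¹ : T) : Perm α) : α → α) ∘ ((g : Perm α) : α → α) = id :=
          funext fun x => by simp
        rw [this, Finset.image_id] }
  have hpair : ∀ g : T, g ∈ T₀ → ∀ i, (g : Perm α) (A i) = A i ∨ (g : Perm α) (A i) = B i := by
    intro g hg i
    have hgU : (g : Perm α) (A i) ∈ U := hUpres _ g.2.1 _ (hAU i)
    obtain ⟨j, hj⟩ : ∃ j, (g : Perm α) (A i) = A j ∨ (g : Perm α) (A i) = B j := by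
      simp only [hU, Finset.mem_union, Finset.mem_image, Finset.mem_univ, true_and] at hgU
      rcases hgU with ⟨j, h⟩ | ⟨j, h⟩
      · exact ⟨j, Or.inl h.symm⟩
      · exact ⟨j, Or.inr h.symm⟩
    rcases eq_or_ne j i with rfl | hji
    · exact hj
    exfalso
    obtain ⟨l, hli, hlj⟩ := hthird i j
    have h := hg _ (hD i l hli.symm)
    have h1 : (g : Perm α) (A i) ∈ (X i l).support := by
      rw [← h]
      exact Finset.mem_image_of_mem _ (by rw [hXs i l hli.symm]; simp)
    rw [hXs i l hli.symm] at h1
    rcases hj with hj | hj <;> rw [hj] at h1 <;>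
      simp [hA.eq_iff, hB.eq_iff, hAB, Ne.symm (hAB _ _), hji, hlj.symm] at h1
  have hpair' : ∀ g : T, g ∈ T₀ → ∀ i, (g : Perm α) (B i) = A i ∨ (g : Perm α) (B i) = B i := by
    intro g hg i
    have hgU : (g : Perm α) (B i) ∈ U := hUpres _ g.2.1 _ (hBU i)
    obtain ⟨j, hj⟩ : ∃ j, (g : Perm α) (B i) = A j ∨ (g : Perm α) (B i) = B j := by
      simp only [hU, Finset.mem_union, Finset.mem_image, Finset.mem_univ, true_and] at hgU
      rcases hgU with ⟨j, h⟩ | ⟨j, h⟩
      · exact ⟨j, Or.inl h.symm⟩
      · exact ⟨j, Or.inr h.symm⟩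
    rcases eq_or_ne j i with rfl | hji
    · exact hj
    exfalso
    obtain ⟨l, hli, hlj⟩ := hthird i j
    have h := hg _ (hD i l hli.symm)
    have h1 : (g : Perm α) (B i) ∈ (X i l).support := by
      rw [← h]
      exact Finset.mem_image_of_mem _ (by rw [hXs i l hli.symm]; simp)
    rw [hXs i l hli.symm] at h1
    rcases hj with hj | hj <;> rw [hj] at h1 <;>
      simp [hA.eq_iff, hB.eq_iff, hAB, Ne.symm (hAB _ _), hji, hlj.symm] at h1
  have hT₀ab : ∀ g g' : T, g ∈ T₀ → g' ∈ T₀ → g * g' = g' * g := by
    intro g g' hg hg'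
    refine Subtype.ext (Equiv.ext fun x => ?_)
    show (g : Perm α) ((g' : Perm α) x) = (g' : Perm α) ((g : Perm α) x)
    have hinj := (g : Perm α).injective
    have hinj' := (g' : Perm α).injective
    by_cases hx : x ∈ U
    · simp only [hU, Finset.mem_union, Finset.mem_image, Finset.mem_univ, true_and] at hx
      rcases hx with ⟨i, rfl⟩ | ⟨i, rfl⟩
      all_goals
        have := hAB i i
        rcases hpair g hg i with a | a <;> rcases hpair' g hg i with b | b <;>
          rcases hpair g' hg' i with a' | a' <;> rcases hpair' g' hg' i with b' | b'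
        all_goals first
          | exact absurd (hinj (a.trans b.symm)) (hAB i i)
          | exact absurd (hinj' (a'.trans b'.symm)) (hAB i i)
          | simp [a, b, a', b']
    · rw [g'.2.2.1 x hx, g.2.2.1 x hx, g'.2.2.1 x hx]
  have hTsolv : Group.IsSolvable T := by
    have hcomm : ⁅(⊤ : Subgroup T), ⊤⁆ ≤ T₀ := by
      rw [commutator_le]
      intro g _ g' _ y hy
      have e : ∀ z, D z → z.support.image ((g : Perm α) * g' : Perm α) =
          z.support.image ((g' : Perm α) * g : Perm α) := by
        intro z hz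
        rw [show (((g : Perm α) * g' : Perm α) : α → α) = (g : Perm α) ∘ (g' : Perm α) from rfl,
          show (((g' : Perm α) * g : Perm α) : α → α) = (g' : Perm α) ∘ (g : Perm α) from rfl,
          ← Finset.image_image, ← Finset.image_image]
        rcases g.2.2.2 z hz with h | h <;> rcases g'.2.2.2 z hz with h' | h' <;>
          simp only [h, h', hsd _ g.2.1, hsd _ g'.2.1, hss z hz]
      set u : Perm α := (g' : Perm α) * g with hu
      have huH : u ∈ H := H.mul_mem g'.2.1 g.2.1
      have h1 := e _ (hconjD u⁻¹ (H.inv_mem huH) y hy)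
      rw [hsuppconj, Finset.image_image, Finset.image_image] at h1
      show y.support.image ((⁅g, g'⁆ : T) : Perm α) = y.support
      rw [show ((⁅g, g'⁆ : T) : Perm α) = (g : Perm α) * g' * u⁻¹ by
        rw [commutatorElement_def, hu]; push_cast; group]
      refine h1.trans ?_
      rw [show (u : α → α) ∘ ((u⁻¹ : Perm α) : α → α) = id from funext fun x => apply_inv' u x,
        Finset.image_id]
    refine ⟨⟨2, ?_⟩⟩
    rw [derivedSeries_succ, derivedSeries_succ, derivedSeries_zero, eq_bot_iff, commutator_le]
    intro g hg g' hg'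
    rw [mem_bot, commutatorElement_eq_one_iff_mul_comm]
    exact hT₀ab g g' (hcomm hg) (hcomm hg')
  -- the product of four swaps
  obtain ⟨i₀, i₁, i₂, i₃, h01, h02, h03, h12, h13, h23⟩ : ∃ a b c d : Fin k,
      a ≠ b ∧ a ≠ c ∧ a ≠ d ∧ b ≠ c ∧ b ≠ d ∧ c ≠ d :=
    ⟨⟨0, by omega⟩, ⟨1, by omega⟩, ⟨2, by omega⟩, ⟨3, by omega⟩, by simp, by simp, by simp, by simp,
      by simp, by simp⟩
  set t := X i₀ i₁ * X i₂ i₃ with ht
  have htdis : Disjoint (X i₀ i₁) (X i₂ i₃) := by
    rw [disjoint_iff_disjoint_support, hXs _ _ h01, hXs _ _ h23]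
    simp [hA.eq_iff, hB.eq_iff, hAB, Ne.symm (hAB _ _), h02, h03, h12, h13, h02.symm, h03.symm,
      h12.symm, h13.symm]
  have hts : t.support = {A i₀, B i₀, A i₁, B i₁} ∪ {A i₂, B i₂, A i₃, B i₃} := by
    rw [ht, htdis.support_mul, hXs _ _ h01, hXs _ _ h23]
  have htswap : ∀ j, (j = i₀ ∨ j = i₁ ∨ j = i₂ ∨ j = i₃) → t (A j) = B j ∧ t (B j) = A j := by
    intro j hj
    rcases hj with rfl | rfl | rfl | rfl <;>
      simp [ht, X, swap_apply_def, hA.eq_iff, hB.eq_iff, hAB, Ne.symm (hAB _ _), h01, h02, h03, h12,
        h13, h23, h01.symm, h02.symm, h03.symm, h12.symm, h13.symm, h23.symm]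
  have htfix : ∀ j, ¬(j = i₀ ∨ j = i₁ ∨ j = i₂ ∨ j = i₃) → t (A j) = A j ∧ t (B j) = B j := by
    intro j hj
    push Not at hj
    constructor <;> refine notMem_support.1 ?_ <;>
      simp [hts, hA.eq_iff, hB.eq_iff, hAB, Ne.symm (hAB _ _), hj]
  have htT : t ∈ T := by
    refine ⟨H.mul_mem (hX _ _ h01) (hX _ _ h23), fun x hx => notMem_support.1 fun h => hx ?_, fun y hy => ?_⟩
    · rw [hts] at h
      simp only [Finset.mem_union, Finset.mem_insert, Finset.mem_singleton] at h
      rcases h with (rfl | rfl | rfl | rfl) | (rfl | rfl | rfl | rfl) <;> first | exact hAU _ | exact hBU _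
    · obtain ⟨hyU, hcase⟩ := hstruct y hy
      rcases hcase with hall | ⟨hk4, hone⟩
      · left
        refine Finset.eq_of_subset_of_card_le (Finset.image_subset_iff.2 fun x hx => ?_)
          (by rw [Finset.card_image_of_injective _ t.injective])
        have hxU := hyU hx
        simp only [hU, Finset.mem_union, Finset.mem_image, Finset.mem_univ, true_and] at hxU
        rcases hxU with ⟨j, rfl⟩ | ⟨j, rfl⟩ <;> by_cases hj : (j = i₀ ∨ j = i₁ ∨ j = i₂ ∨ j = i₃)
        · rw [(htswap j hj).1]; exact (hall j).1 hx
        · rw [(htfix j hj).1]; exact hx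
        · rw [(htswap j hj).2]; exact (hall j).2 hx
        · rw [(htfix j hj).2]; exact hx
      · right
        have hcov : ∀ j, (j = i₀ ∨ j = i₁ ∨ j = i₂ ∨ j = i₃) := by
          intro j
          have : ({i₀, i₁, i₂, i₃} : Finset (Fin k)) = Finset.univ :=
            Finset.eq_univ_of_card _ (by simp [h01, h02, h03, h12, h13, h23, hk4])
          have := this ▸ Finset.mem_univ j
          simpa using this
        refine Finset.eq_of_subset_of_card_le (Finset.image_subset_iff.2 fun x hx => ?_) ?_
        · have hxU := hyU hx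
          simp only [hU, Finset.mem_union, Finset.mem_image, Finset.mem_univ, true_and] at hxU
          rcases hxU with ⟨j, rfl⟩ | ⟨j, rfl⟩
          · rw [(htswap j (hcov j)).1]
            exact Finset.mem_sdiff.2 ⟨hBU j, (hone j).1 hx⟩
          · rw [(htswap j (hcov j)).2]
            exact Finset.mem_sdiff.2 ⟨hAU j, fun h => (hone j).1 h hx⟩
        · rw [Finset.card_image_of_injective _ t.injective, Finset.card_sdiff_of_subset hyU, hUcard,
            hy.2.1]
          omega
  have htC := c.solvable_centralizes (fun g (hg : g ∈ T) => (show good g from hg).1) hTn hTsolv htT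
  have ht2 : t * t = 1 := by
    rw [ht, (htdis.commute).symm.mul_mul_mul_comm, hX2 _ _ h01, hX2 _ _ h23, one_mul]
  have ht1 := c.eq_one_of_involution htT.1 htC ht2 (by
    rw [hts]
    refine (Finset.card_union_le _ _).trans (Nat.add_le_add (Finset.card_le_four) (Finset.card_le_four)))
  have := (htswap i₀ (Or.inl rfl)).1
  rw [ht1, one_apply] at this
  exact hAB _ _ this

/-- the identification of `Q` once `H` contains a three-cycle -/
theorem identify (c : Ctx H Q) {d : Perm α} (hdH : d ∈ H) (hd : d.IsThreeCycle) :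
    ∃ Δ : Finset α, 5 ≤ Δ.card ∧ Q = altOn Δ ∧ ∀ h ∈ H, Δ.image h = Δ := by
  classical
  obtain ⟨Δ, hΔmem, hΔmax⟩ := Finset.exists_max_image
    (Finset.univ.filter fun D : Finset α => altOn D ≤ H ∧ d.support ⊆ D) Finset.card
    ⟨d.support, Finset.mem_filter.2 ⟨Finset.mem_univ _, altOn_support_le hd hdH, subset_rfl⟩⟩
  obtain ⟨hΔH, hdΔ⟩ := (Finset.mem_filter.1 hΔmem).2
  have hΔ3 : 3 ≤ Δ.card := hd.card_support ▸ Finset.card_le_card hdΔ
  set M := altOn Δ with hM
  have hdM : d ∈ M := mem_altOn.2 ⟨hdΔ, hd.sign⟩
  let Mc : H → Subgroup (Perm α) := fun h => altOn (Δ.image (h : Perm α))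
  have hMcH : ∀ h : H, Mc h ≤ H := by
    intro h
    rw [show Mc h = M.map (MulAut.conj (h : Perm α)).toMonoidHom from (map_altOn Δ h).symm]
    rintro _ ⟨x, hx, rfl⟩
    exact H.mul_mem (H.mul_mem h.2 (hΔH hx)) (H.inv_mem h.2)
  -- the translates of `Δ` are equal to `Δ` or disjoint from it
  have hblock : ∀ h : H, Δ.image (h : Perm α) = Δ ∨ _root_.Disjoint (Δ.image (h : Perm α)) Δ := by
    intro h
    rw [or_iff_not_imp_right, Finset.not_disjoint_iff]
    rintro ⟨a, ha, ha'⟩
    have hle := altOn_union hΔH (hMcH h) hΔ3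
      (by rwa [Finset.card_image_of_injective _ (h : Perm α).injective]) ha' ha
    have := hΔmax _ (Finset.mem_filter.2 ⟨Finset.mem_univ _, hle, hdΔ.trans Finset.subset_union_left⟩)
    have heq : Δ = Δ ∪ Δ.image (h : Perm α) := Finset.eq_of_subset_of_card_le Finset.subset_union_left this
    refine Finset.eq_of_subset_of_card_le ?_ (by rw [Finset.card_image_of_injective _ (h : Perm α).injective])
    exact fun x hx => heq ▸ Finset.mem_union_right _ hx
  have hblock2 : ∀ h k : H, Δ.image (h : Perm α) = Δ.image (k : Perm α) ∨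
      _root_.Disjoint (Δ.image (h : Perm α)) (Δ.image (k : Perm α)) := by
    intro h k
    have e : Δ.image (h : Perm α) = (Δ.image ((k⁻¹ * h : H) : Perm α)).image (k : Perm α) := by
      rw [Finset.image_image]
      congr 1
      funext x
      simp
    rw [e]
    rcases hblock (k⁻¹ * h) with h1 | h1
    · exact Or.inl (by rw [h1])
    · exact Or.inr ((Finset.disjoint_image (k : Perm α).injective).2 h1)
  have hnorm : ∀ h k : H, Mc h ≤ normalizer (Mc k : Set (Perm α)) := by
    intro h k
    rcases hblock2 h k with h1 | h1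
    · show altOn (Δ.image (h : Perm α)) ≤ normalizer ((altOn (Δ.image (k : Perm α)) : Subgroup (Perm α)) : Set (Perm α))
      rw [h1]
      exact le_normalizer
    · exact (commute_altOn h1).trans (centralizer_le_normalizer _)
  set N : Subgroup (Perm α) := ⨆ h : H, Mc h with hN
  have hMN : M ≤ N := le_trans (by simp [Mc, hM]) (le_iSup Mc (1 : H))
  have hNH : N ≤ H := iSup_le hMcH
  have hHN : H ≤ normalizer (N : Set (Perm α)) := by
    have hmap : ∀ x ∈ H, N.map (MulAut.conj x).toMonoidHom ≤ N := by
      intro x hx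
      rw [hN, Subgroup.map_iSup]
      refine iSup_le fun h => ?_
      refine le_trans (le_of_eq ?_) (le_iSup Mc (⟨x, hx⟩ * h : H))
      show (altOn _).map _ = altOn _
      rw [map_altOn, Finset.image_image]
      rfl
    intro x hx
    rw [mem_normalizer_iff]
    refine fun g => ⟨fun hg => hmap x hx ⟨g, hg, rfl⟩, fun hg => ?_⟩
    have := hmap x⁻¹ (H.inv_mem hx) ⟨_, hg, rfl⟩
    simpa [mul_assoc] using this
  have hNM : N ≤ normalizer (M : Set (Perm α)) := iSup_le fun h => by
    have := hnorm h 1
    simpa [Mc, hM] using this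
  have hnotcent : ¬ N ≤ centralizer (Q : Set (Perm α)) := by
    intro h
    have h1 := c.eq_one_of_orbits hdH (h (hMN hdM)) ?_
    · exact hd.ne_one h1
    intro q hq a ha
    have hqd : q * d = d * q := mem_centralizer_iff.1 (h (hMN hdM)) q hq
    have hqa : q a ∈ d.support := by
      rw [mem_support] at ha ⊢
      rw [← mul_apply, ← hqd, mul_apply]
      exact fun e => ha (q.injective e)
    obtain ⟨i, hi⟩ := hd.isCycle.exists_pow_eq (mem_support.1 ha) (mem_support.1 hqa)
    exact ⟨i, hi.symm⟩
  have hΔ5 : 5 ≤ Δ.card := by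
    by_contra h5
    apply hnotcent
    refine c.solvable_centralizes hNH hHN ?_
    have hsolv : ∀ h : H, Group.IsSolvable (Mc h) := fun h => by
      refine Cfsg.Lib.Presentations.isSolvable_of_card_lt_sixty _ _ rfl ?_
      show Nat.card (altOn _) < 60
      rw [altOn, Cfsg.Lib.Thompson.card_map_of_injOn ofSubtype_injective.injOn]
      refine lt_of_le_of_lt (Subgroup.card_le_card_group _) ?_
      rw [Nat.card_perm, Nat.card_eq_fintype_card, Fintype.card_coe,
        Finset.card_image_of_injective _ (h : Perm α).injective]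
      have := Nat.factorial_le (show Δ.card ≤ 4 by omega)
      have h24 : Nat.factorial 4 = 24 := rfl
      omega
    haveI := Fintype.ofFinite H
    have key : ∀ s : Finset H, Group.IsSolvable ↥(s.sup Mc) ∧
        ∀ h : H, Mc h ≤ normalizer ((s.sup Mc : Subgroup (Perm α)) : Set (Perm α)) := by
      intro s
      induction s using Finset.induction_on with
      | empty =>
        rw [Finset.sup_empty]
        exact ⟨inferInstance, fun h => le_normalizer_of_normal⟩
      | insert a s _ ih =>
        rw [Finset.sup_insert, sup_comm]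
        refine ⟨Cfsg.Lib.Signalizer.isSolvable_sup (ih.2 a) ih.1 (hsolv a), fun h x hx => ?_⟩
        rw [mem_normalizer_iff_map_conj_eq]
        show (s.sup Mc ⊔ Mc a).map (MulAut.conj x).toMonoidHom = s.sup Mc ⊔ Mc a
        rw [Subgroup.map_sup, show (s.sup Mc).map (MulAut.conj x).toMonoidHom = s.sup Mc from
            mem_normalizer_iff_map_conj_eq.1 (ih.2 h hx),
          show (Mc a).map (MulAut.conj x).toMonoidHom = Mc a from
            mem_normalizer_iff_map_conj_eq.1 (hnorm h a hx)]
    have := (key Finset.univ).1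
    rwa [Finset.sup_univ_eq_iSup] at this
  haveI hsimple : IsSimpleGroup M := by
    haveI : IsSimpleGroup (alternatingGroup ↥Δ) := alternatingGroup.isSimpleGroup (by simpa using hΔ5)
    exact ((alternatingGroup ↥Δ).equivMapOfInjective _ Perm.ofSubtype_injective).symm.isSimpleGroup
  have hQN : Q ≤ N := by
    have hQn : Q ≤ normalizer ((N ⊓ Q : Subgroup (Perm α)) : Set (Perm α)) :=
      fun x hx => mem_normalizer_iff.2 fun y => by
        rw [mem_inf, mem_inf]
        exact and_congr (mem_normalizer_iff.1 (hHN (c.le hx)) y) (mem_normalizer_iff.1 (le_normalizer hx) y)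
    rcases c.small (N ⊓ Q) inf_le_right hQn with h | h
    · exact inf_eq_right.1 h
    · exfalso
      apply hnotcent
      have h1 : ⁅Q, N⁆ ≤ N ⊓ Q := le_inf (le_normalizer_iff_commutator_le_right.mp (c.le.trans hHN))
        (le_normalizer_iff_commutator_le_left.mp (hNH.trans c.normal))
      have h2 : ⁅⁅Q, N⁆, Q⁆ = ⊥ := commutator_eq_bot_iff_le_centralizer.2 (h1.trans h)
      have h3 := Cfsg.Lib.Components.commutator_eq_bot_of_perfect c.perfect h2
      exact commutator_eq_bot_iff_le_centralizer.1 (by rw [commutator_comm]; exact h3)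
  haveI hMQn : ((M ⊓ Q).subgroupOf M).Normal := (normal_subgroupOf_iff_le_normalizer inf_le_left).2
    fun x hx => mem_normalizer_iff.2 fun y => by
      rw [mem_inf, mem_inf]
      exact and_congr (mem_normalizer_iff.1 (le_normalizer hx) y) (mem_normalizer_iff.1 (c.normal (hΔH hx)) y)
  have hMQ : M ≤ Q := by
    rcases IsSimpleGroup.eq_bot_or_eq_top_of_normal _ hMQn with h | h
    · exfalso
      rw [subgroupOf_eq_bot, disjoint_iff] at h
      have h1 : ⁅M, Q⁆ ≤ M ⊓ Q := le_inf (le_normalizer_iff_commutator_le_left.mp (hQN.trans hNM))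
        (le_normalizer_iff_commutator_le_right.mp (hΔH.trans c.normal))
      rw [show M ⊓ Q = ⊥ by
        rw [← h]; simp [inf_assoc, inf_comm]] at h1
      have h2 := commutator_eq_bot_iff_le_centralizer.1 (le_bot_iff.1 h1)
      apply hnotcent
      intro x hx
      -- every translate of `M` centralizes `Q`
      induction hx using Subgroup.iSup_induction' with
      | hp h y hy =>
        rw [show Mc h = M.map (MulAut.conj (h : Perm α)).toMonoidHom from (map_altOn Δ h).symm] at hy
        obtain ⟨z, hz, rfl⟩ := hy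
        refine mem_centralizer_iff.2 fun q hq => ?_
        have hq' : (h : Perm α)⁻¹ * q * (h : Perm α) ∈ Q := by
          have := (mem_normalizer_iff.1 (c.normal (H.inv_mem h.2)) q).1 hq
          rwa [inv_inv] at this
        have := mem_centralizer_iff.1 (h2 hz) _ hq'
        calc q * ((MulAut.conj (h : Perm α)) z) = (h : Perm α) * ((h : Perm α)⁻¹ * q * h * z) * (h : Perm α)⁻¹ := by
              simp [mul_assoc]
          _ = (MulAut.conj (h : Perm α)) z * q := by rw [this]; simp [mul_assoc]
      | h1 => exact Subgroup.one_mem _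
      | hmul y z _ _ hy hz => exact Subgroup.mul_mem _ hy hz
    · exact inf_eq_left.1 (le_antisymm inf_le_left ((subgroupOf_eq_top).1 h))
  have hQM : Q = M := by
    rcases c.small M hMQ (hQN.trans hNM) with h | h
    · exact h.symm
    · exfalso
      have hab : IsMulCommutative M := ⟨⟨fun x y => Subtype.ext (mem_centralizer_iff.1 (h y.2) x (hMQ x.2))⟩⟩
      obtain ⟨a, ha⟩ := Finset.card_pos.1 (by omega : 0 < Δ.card)
      obtain ⟨u, hu⟩ := Finset.card_pos.1 (show 0 < (Δ.erase a).card by rw [Finset.card_erase_of_mem ha]; omega)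
      obtain ⟨v, hv⟩ := Finset.card_pos.1 (show 0 < ((Δ.erase a).erase u).card by
        rw [Finset.card_erase_of_mem hu, Finset.card_erase_of_mem ha]; omega)
      obtain ⟨w, hw⟩ := Finset.card_pos.1 (show 0 < (((Δ.erase a).erase u).erase v).card by
        rw [Finset.card_erase_of_mem hv, Finset.card_erase_of_mem hu, Finset.card_erase_of_mem ha]; omega)
      simp only [Finset.mem_erase] at hu hv hw
      have m1 := swap_mul_swap_mem_altOn ha hu.2 hv.2.2 hu.1.symm hv.2.1.symm
      have m2 := swap_mul_swap_mem_altOn ha hu.2 hw.2.2.2 hu.1.symm hw.2.2.1.symm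
      have := congrArg (fun f : Perm α => f v) (congrArg Subtype.val (hab.is_comm.comm ⟨_, m1⟩ ⟨_, m2⟩))
      simp [swap_apply_def, hu.1, hv.1, hv.2.1, hw.1, hw.2.1, hw.2.2.1, hu.1.symm, hv.1.symm,
        hv.2.1.symm, hw.1.symm, hw.2.1.symm, hw.2.2.1.symm] at this
  refine ⟨Δ, hΔ5, hQM, fun h hh => ?_⟩
  rcases hblock ⟨h, hh⟩ with h1 | h1
  · exact h1
  · exfalso
    have hmap : M.map (MulAut.conj h).toMonoidHom = M := by
      rw [← hQM]
      exact mem_normalizer_iff_map_conj_eq.1 (c.normal hh)
    rw [map_altOn] at hmap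
    have hd' : d ∈ altOn (Δ.image h) := hmap ▸ hdM
    obtain ⟨a, ha⟩ := Finset.card_pos.1 (by rw [hd.card_support]; omega : 0 < d.support.card)
    exact Finset.disjoint_left.1 h1 ((mem_altOn.1 hd').1 ha) (hdΔ ha)

/-- the main theorem -/
theorem exists_iso (n : ℕ) (hn : 8 ≤ n) (H : Subgroup (Perm (Fin n)))
    (hF : Cfsg.IsQuasisimple ↥(Cfsg.generalizedFittingSubgroup ↥H))
    (hS : ∃ P : Sylow 2 ↥(alternatingGroup (Fin n)),
      ((P : Subgroup ↥(alternatingGroup (Fin n))).map (alternatingGroup (Fin n)).subtype) ≤ H) :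
    ∃ m : ℕ, (m = n - 3 ∨ m = n - 2 ∨ m = n - 1 ∨ m = n) ∧
      Nonempty (↥(Cfsg.generalizedFittingSubgroup ↥H) ≃* ↥(alternatingGroup (Fin m))) := by
  obtain ⟨P, hP⟩ := hS
  have c := ctx_of_genFitting H hF
  set Q := (Cfsg.generalizedFittingSubgroup ↥H).map H.subtype with hQ
  -- the explicit pairs
  set k := n / 2 with hk
  let a : Fin k → Fin n := fun i => ⟨2 * i.1, by have := i.2; omega⟩
  let b : Fin k → Fin n := fun i => ⟨2 * i.1 + 1, by have := i.2; omega⟩
  let X : Fin k → Fin k → Perm (Fin n) := fun i j => swap (a i) (b i) * swap (a j) (b j)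
  have hab : ∀ i, a i ≠ b i := fun i h => by have := congrArg Fin.val h; simp [a, b] at this
  have hsw : ∀ i j, Commute (swap (a i) (b i)) (swap (a j) (b j)) := by
    intro i j
    rcases eq_or_ne i j with rfl | hij
    · exact Commute.refl _
    · refine Disjoint.commute ?_
      rw [disjoint_iff_disjoint_support, support_swap (hab i), support_swap (hab j)]
      have : i.1 ≠ j.1 := fun h => hij (Fin.ext h)
      simp [a, b, Fin.ext_iff]
      omega
  let E : Subgroup (Perm (Fin n)) := Subgroup.closure {x | ∃ i j, i ≠ j ∧ x = X i j}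
  have hEA : E ≤ alternatingGroup (Fin n) := (closure_le _).2 fun x ⟨i, j, _, hx⟩ => by
    rw [SetLike.mem_coe, hx, Perm.mem_alternatingGroup, map_mul, sign_swap (hab i), sign_swap (hab j)]
    rfl
  have hEgen : ∀ x ∈ E, x * x = 1 ∧ ∀ l, Commute x (swap (a l) (b l)) := by
    intro x hx
    induction hx using Subgroup.closure_induction with
    | mem x hx =>
      obtain ⟨i, j, -, rfl⟩ := hx
      refine ⟨?_, fun l => (hsw i l).mul_left (hsw j l)⟩
      show swap (a i) (b i) * swap (a j) (b j) * (swap (a i) (b i) * swap (a j) (b j)) = 1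
      rw [(hsw i j).symm.mul_mul_mul_comm, swap_mul_self, swap_mul_self, one_mul]
    | one => exact ⟨one_mul 1, fun l => Commute.one_left _⟩
    | mul x y hx' hy' ihx ihy =>
      refine ⟨?_, fun l => (ihx.2 l).mul_left (ihy.2 l)⟩
      have hxy : Commute y x := by
        refine Subgroup.closure_induction (p := fun z _ => Commute z x) ?_ (Commute.one_left _)
          (fun _ _ _ _ h1 h2 => h1.mul_left h2) (fun _ _ h => h.inv_left) hy'
        rintro z ⟨i, j, -, rfl⟩
        exact ((ihx.2 i).symm).mul_left ((ihx.2 j).symm)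
      rw [hxy.mul_mul_mul_comm, ihx.1, ihy.1, one_mul]
    | inv x hx' ih => exact ⟨by rw [← mul_inv_rev, ih.1, inv_one], fun l => (ih.2 l).inv_left⟩
  have hEp : IsPGroup 2 (E.subgroupOf (alternatingGroup (Fin n))) := fun x => ⟨1, by
    refine Subtype.ext (Subtype.ext ?_)
    simpa [pow_two] using (hEgen _ x.2).1⟩
  obtain ⟨P₀, hP₀⟩ := hEp.exists_le_sylow
  obtain ⟨g, hg⟩ := MulAction.exists_smul_eq ↥(alternatingGroup (Fin n)) P₀ P
  have hXH : ∀ i j, i ≠ j → swap ((g : Perm (Fin n)) (a i)) ((g : Perm (Fin n)) (b i)) *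
      swap ((g : Perm (Fin n)) (a j)) ((g : Perm (Fin n)) (b j)) ∈ H := by
    intro i j hij
    apply hP
    have hmem : (⟨X i j, hEA (subset_closure ⟨i, j, hij, rfl⟩)⟩ : alternatingGroup (Fin n)) ∈ P₀ :=
      hP₀ (subset_closure ⟨i, j, hij, rfl⟩)
    refine ⟨g * ⟨X i j, hEA (subset_closure ⟨i, j, hij, rfl⟩)⟩ * g⁻¹, ?_, ?_⟩
    · rw [← hg]
      exact ⟨_, hmem, rfl⟩
    · show (g : Perm (Fin n)) * X i j * (g : Perm (Fin n))⁻¹ = _
      rw [swap_apply_apply, swap_apply_apply]
      simp [X, mul_assoc]
  have hga : Function.Injective (fun i => (g : Perm (Fin n)) (a i)) := fun i j h => by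
    have := congrArg Fin.val ((g : Perm (Fin n)).injective h)
    exact Fin.ext (by simp [a] at this; omega)
  have hgb : Function.Injective (fun i => (g : Perm (Fin n)) (b i)) := fun i j h => by
    have := congrArg Fin.val ((g : Perm (Fin n)).injective h)
    exact Fin.ext (by simp [b] at this; omega)
  have hgab : ∀ i j, (g : Perm (Fin n)) (a i) ≠ (g : Perm (Fin n)) (b j) := fun i j h => by
    have := congrArg Fin.val ((g : Perm (Fin n)).injective h)
    simp [a, b] at this
    omega
  obtain ⟨d, hdH, hd⟩ := exists_threeCycle c (by omega : 4 ≤ k)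
    (by rw [Fintype.card_fin]; omega) _ _ hga hgb hgab hXH
  obtain ⟨Δ, hΔ5, hQΔ, hinv⟩ := identify c hdH hd
  -- at most three points outside
  have hrest : Δᶜ.card ≤ 3 := by
    by_contra h4
    push Not at h4
    let A := alternatingGroup (Fin n)
    set K := altOn Δᶜ with hK
    have hKA : K ≤ A := fun x hx => Perm.mem_alternatingGroup.2 (mem_altOn.1 hx).2
    set P' := (P : Subgroup A).map A.subtype with hP'
    have hP'n : P' ≤ normalizer (K : Set (Perm (Fin n))) := by
      intro x hx
      rw [mem_normalizer_iff_map_conj_eq]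
      show K.map (MulAut.conj x).toMonoidHom = K
      rw [hK, map_altOn]
      congr 1
      have h1 := hinv x (hP hx)
      ext p
      simp only [Finset.mem_image, Finset.mem_compl]
      constructor
      · rintro ⟨q, hq, rfl⟩ h
        apply hq
        rw [← h1, Finset.mem_image] at h
        obtain ⟨r, hr, hre⟩ := h
        exact x.injective hre ▸ hr
      · intro hp
        refine ⟨x⁻¹ p, fun h => hp ?_, apply_inv' x p⟩
        rw [← h1, Finset.mem_image]
        exact ⟨_, h, apply_inv' x p⟩
    obtain ⟨t, htP, htK, ht1⟩ : ∃ t, t ∈ P' ∧ t ∈ K ∧ t ≠ 1 := by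
      by_contra hno
      push Not at hno
      have hbot : P' ⊓ K = ⊥ := (eq_bot_iff_forall _).2 fun x hx => hno x hx.1 hx.2
      have h2K : 2 ∣ Nat.card K := by
        obtain ⟨p, hp⟩ := Finset.card_pos.1 (show 0 < Δᶜ.card by omega)
        obtain ⟨q, hq⟩ := Finset.card_pos.1 (show 0 < (Δᶜ.erase p).card by
          rw [Finset.card_erase_of_mem hp]; omega)
        obtain ⟨r, hr⟩ := Finset.card_pos.1 (show 0 < ((Δᶜ.erase p).erase q).card by
          rw [Finset.card_erase_of_mem hq, Finset.card_erase_of_mem hp]; omega)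
        obtain ⟨s, hs⟩ := Finset.card_pos.1 (show 0 < (((Δᶜ.erase p).erase q).erase r).card by
          rw [Finset.card_erase_of_mem hr, Finset.card_erase_of_mem hq, Finset.card_erase_of_mem hp]; omega)
        simp only [Finset.mem_erase] at hq hr hs
        set w := swap p q * swap r s with hw
        have hd : Disjoint (swap p q) (swap r s) := by
          rw [disjoint_iff_disjoint_support, support_swap hq.1.symm, support_swap hs.1.symm]
          simp [hr.1, hr.2.1, hs.2.1, hs.2.2.1]
        have hwK : w ∈ K := by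
          refine mem_altOn.2 ⟨?_, ?_⟩
          · rw [hw, hd.support_mul, support_swap hq.1.symm, support_swap hs.1.symm]
            intro z hz
            simp only [Finset.mem_union, Finset.mem_insert, Finset.mem_singleton] at hz
            rcases hz with (rfl | rfl) | rfl | rfl
            exacts [hp, hq.2, hr.2.2, hs.2.2.2]
          · rw [hw, map_mul, sign_swap hq.1.symm, sign_swap hs.1.symm]; rfl
        have hord : orderOf (⟨w, hwK⟩ : K) = 2 := by
          refine orderOf_eq_prime (Subtype.ext ?_) fun h => ?_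
          · show w ^ 2 = 1
            rw [pow_two, hw, hd.commute.symm.mul_mul_mul_comm, swap_mul_self, swap_mul_self, one_mul]
          · have := congrArg (fun f : ↥K => (f : Perm (Fin n)) p) h
            simp [hw, swap_apply_def, hr.2.1.symm, hs.2.2.1.symm, hq.1] at this
        exact hord ▸ orderOf_dvd_natCard _
      have hsup : (P' ⊔ K : Subgroup (Perm (Fin n))) ≤ A := sup_le (map_subtype_le _) hKA
      have hcard : Nat.card ↥(P' ⊔ K) = Nat.card P' * Nat.card K := by
        have h1 : (K.subgroupOf (P' ⊔ K)).index = Nat.card P' := by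
          haveI := Subgroup.normal_subgroupOf_of_le_normalizer hP'n
          haveI := Subgroup.normal_subgroupOf_sup_of_le_normalizer hP'n
          rw [Subgroup.index, ← Nat.card_congr (QuotientGroup.quotientInfEquivProdNormalizerQuotient P' K hP'n).toEquiv]
          show K.relIndex P' = _
          rw [← Subgroup.inf_relIndex_right, inf_comm, hbot, Subgroup.relIndex_bot_left]
        have h2 := (K.subgroupOf (P' ⊔ K)).card_mul_index
        rw [h1, Nat.card_congr (subgroupOfEquivOfLe (le_sup_right : K ≤ P' ⊔ K)).toEquiv] at h2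
        rw [← h2, mul_comm]
      have hdvd := Subgroup.card_dvd_of_le hsup
      rw [hcard, hP', Cfsg.Lib.Thompson.card_map_of_injOn A.subtype_injective.injOn,
        ← Subgroup.card_mul_index (P : Subgroup A)] at hdvd
      have := Nat.dvd_of_mul_dvd_mul_left Nat.card_pos hdvd
      exact P.not_dvd_index (h2K.trans this)
    apply ht1
    have htC : t ∈ centralizer (Q : Set (Perm (Fin n))) := by
      rw [hQΔ]
      exact commute_altOn disjoint_compl_left htK
    have htQ := c.self (mem_inf.2 ⟨hP htP, htC⟩)
    rw [hQΔ] at htQ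
    refine support_eq_empty_iff.1 (Finset.eq_empty_of_forall_notMem fun x hx => ?_)
    exact Finset.mem_compl.1 ((mem_altOn.1 htK).1 hx) ((mem_altOn.1 htQ).1 hx)
  refine ⟨Δ.card, ?_, ⟨?_⟩⟩
  · rw [Finset.card_compl, Fintype.card_fin] at hrest
    have hle : Δ.card ≤ n := by simpa using Δ.card_le_univ
    omega
  · refine ((Cfsg.generalizedFittingSubgroup ↥H).equivMapOfInjective _ H.subtype_injective).trans
      ((MulEquiv.subgroupCongr hQΔ).trans ?_)
    refine ((alternatingGroup ↥Δ).equivMapOfInjective _ Perm.ofSubtype_injective).symm.trans ?_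
    exact (Δ.equivFin).altCongrHom

end Cfsg.Lib.AltOverSylow
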